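import Mathlib
import Cfsg.Agent.Lib.LyRec.Ctx

/-! Double coset enumeration over `3 · McL : 2` (generated). -/

set_option maxRecDepth 100000
set_option Elab.async false
set_option linter.unusedSectionVars false

namespace CfsgLib.LyRec

open CfsgLib.CosetEnum

/-- Words for the base points. -/
def QW : List (List ℕ) := [[8, 0], [2], [0]]

variable {Γ : Type*} [Group Γ] {ψ : HH →* Γ} {z : Γ}

/-- The base points. -/
noncomputable def q (ψ : HH →* Γ) (z : Γ) : ℕ → Γ ⧸ ψ.range := qq ψ z QW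

variable (C : Ctx ψ z)
include C

theorem e0 (w : List ℕ) : Edge ψ z f (q ψ z) 0 w 1 [] :=
  have _ := C
  Edge.zero (qq_zero ψ z QW) rfl w
theorem st1 : Stabs ψ f (q ψ z) 1 ZW := C.D.stabs_one (qq_zero ψ z QW) rfl
theorem e1 : Edge ψ z f (q ψ z) 1 [] 0 [] :=
  inv2 C.zz (e0 C [])
theorem e2 : Edge ψ z f (q ψ z) 1 [0] 4 [] :=
  Edge.new rfl
theorem e3 : Edge ψ z f (q ψ z) 1 [2] 3 [] :=
  Edge.new rfl
theorem e4 : Edge ψ z f (q ψ z) 1 [8, 0] 2 [] :=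
  Edge.new rfl
theorem e5 : Edge ψ z f (q ψ z) 2 [] 1 [8, 0] :=
  C.D.simp (C.D.look (inv2 C.zz (e4 C))
    Stabs.nil [] [] (by decide +kernel)) (by decide +kernel)
theorem st2_1 : Stabs ψ f (q ψ z) 2 [[20, 29, 30, 35, 17, 18]] :=
  Stabs.nil.append (C.D.coinc (C.D.look (e4 C) (st1 C) [10, 13, 17, 4, 1, 15] [5, 7, 11, 15, 0, 3] (by decide +kernel))
    (e4 C) (by decide +kernel))
theorem st2_2 : Stabs ψ f (q ψ z) 2 [[20, 29, 30, 35, 17, 18], [12, 35, 16, 19, 21]] :=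
  (st2_1 C).append (C.D.coinc (C.D.look (e4 C) (st1 C) [14, 3, 5, 0, 11, 15] [12, 14, 1, 5, 3] (by decide +kernel))
    (e4 C) (by decide +kernel))
theorem st2_3 : Stabs ψ f (q ψ z) 2 [[20, 29, 30, 35, 17, 18], [12, 35, 16, 19, 21], [12, 35, 18, 31, 32, 16]] :=
  (st2_2 C).append (C.D.coinc (C.D.look (e4 C) (st1 C) [17, 0, 5, 16, 3, 13] [10, 16, 3, 12, 16, 1] (by decide +kernel))
    (e4 C) (by decide +kernel))
theorem st2_4 : Stabs ψ f (q ψ z) 2 [[20, 29, 30, 35, 17, 18], [12, 35, 16, 19, 21], [12, 35, 18, 31, 32, 16], [29, 34, 19, 35, 21]] :=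
  (st2_3 C).append (C.D.coinc (C.D.look (e4 C) (st1 C) [0, 5, 0, 8, 15, 11] [7, 14, 2, 15, 4] (by decide +kernel))
    (e4 C) (by decide +kernel))
theorem e6 : Edge ψ z f (q ψ z) 3 [] 1 [2] :=
  C.D.simp (C.D.look (inv2 C.zz (e3 C))
    Stabs.nil [] [] (by decide +kernel)) (by decide +kernel)
theorem st3_1 : Stabs ψ f (q ψ z) 3 [[13, 15, 20, 17, 29]] :=
  Stabs.nil.append (C.D.coinc (C.D.look (e3 C) (st1 C) [5, 0, 6, 8, 10] [4, 1, 7, 8, 12] (by decide +kernel))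
    (e3 C) (by decide +kernel))
theorem st3_2 : Stabs ψ f (q ψ z) 3 [[13, 15, 20, 17, 29], [13, 15, 21, 16, 29]] :=
  (st3_1 C).append (C.D.coinc (C.D.look (e3 C) (st1 C) [4, 1, 6, 8, 10] [5, 0, 7, 8, 12] (by decide +kernel))
    (e3 C) (by decide +kernel))
theorem st3_3 : Stabs ψ f (q ψ z) 3 [[13, 15, 20, 17, 29], [13, 15, 21, 16, 29], [12, 15, 17, 20, 31]] :=
  (st3_2 C).append (C.D.coinc (C.D.look (e3 C) (st1 C) [1, 4, 6, 10, 13] [1, 4, 8, 10, 12] (by decide +kernel))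
    (e3 C) (by decide +kernel))
theorem e7 : Edge ψ z f (q ψ z) 4 [] 1 [0] :=
  C.D.simp (C.D.look (inv2 C.zz (e2 C))
    Stabs.nil [] [] (by decide +kernel)) (by decide +kernel)
theorem st4_1 : Stabs ψ f (q ψ z) 4 [[18, 29, 35, 20, 17, 15]] :=
  Stabs.nil.append (C.D.coinc (C.D.look (e2 C) (st1 C) [0, 5, 6, 8, 16, 3] [3, 5, 8, 17, 0, 15] (by decide +kernel))
    (e2 C) (by decide +kernel))
theorem st4_2 : Stabs ψ f (q ψ z) 4 [[18, 29, 35, 20, 17, 15], [16, 18, 21, 18, 31, 13]] :=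
  (st4_1 C).append (C.D.coinc (C.D.look (e2 C) (st1 C) [0, 2, 5, 2, 10, 13] [1, 2, 5, 2, 10, 13] (by decide +kernel))
    (e2 C) (by decide +kernel))
theorem e8 : Edge ψ z f (q ψ z) 1 [36] 1 [13, 28, 33, 36, 28, 15] :=
  C.D.simp (C.D.look (Edge.tr3 (w := [21, 23, 10, 17, 6, 16, 8]) C.tri
      (C.D.look (e1 C) (st1 C) [] [5, 15, 1, 16, 2, 1] (by decide +kernel))
      (e0 C _))
    (st1 C) [5, 14] [0, 12, 14, 4, 3, 14, 0] (by decide +kernel)) (by decide +kernel)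
theorem st3_4 : Stabs ψ f (q ψ z) 3 [[13, 15, 20, 17, 29], [13, 15, 21, 16, 29], [12, 15, 17, 20, 31], [4, 12, 27, 23, 4, 20, 2]] :=
  (st3_3 C).append (C.D.coinc (Edge.tr3 (w := [28, 32, 26, 35, 13]) C.tri
      (C.D.look (e8 C) (st1 C) [] [15, 5, 2, 1, 11, 17] (by decide +kernel))
      (C.D.look (e3 C) (st1 C) [10, 17, 2] [1, 4, 3, 6, 10, 14] (by decide +kernel)))
    (C.D.look (e3 C) (st1 C) [16, 3, 6] [0, 5, 0, 3, 8, 10, 15, 13] (by decide +kernel)) (by decide +kernel))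
theorem st3_5_0 : Stabs ψ f (q ψ z) 3 [[27], [12, 15], [20, 22]] :=
  C.D.word (st3_4 C) [[0, 2, 2, 6, 2, 6], [1, 3, 1], [6, 5, 1, 7]] (by decide +kernel) (by decide)
theorem st3_5_1 : Stabs ψ f (q ψ z) 3 [[20, 31], [21, 16]] :=
  C.D.word (st3_4 C) [[0, 0, 5, 3], [0, 3, 4, 4]] (by decide +kernel) (by decide)
theorem st3_5 : Stabs ψ f (q ψ z) 3 [[27], [12, 15], [20, 22], [20, 31], [21, 16]] :=
  ((st3_5_0 C).append (st3_5_1 C))
theorem st2_5 : Stabs ψ f (q ψ z) 2 [[20, 29, 30, 35, 17, 18], [12, 35, 16, 19, 21], [12, 35, 18, 31, 32, 16], [29, 34, 19, 35, 21], [6, 35, 26, 24, 6, 4, 24]] :=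
  (st2_4 C).append (C.D.coinc (Edge.tr3 (w := [32, 35, 19, 8, 10, 32, 15]) C.tri
      (C.D.look (e8 C) (st1 C) [] [5, 6, 17, 1, 3, 12] (by decide +kernel))
      (C.D.look (e4 C) (st1 C) [3, 15] [17, 2, 5, 15, 17] (by decide +kernel)))
    (C.D.look (e4 C) (st1 C) [12, 2, 17, 5] [17, 2, 5, 11, 17] (by decide +kernel)) (by decide +kernel))
theorem e9 : Edge ψ z f (q ψ z) 2 [36, 26] 2 [17, 19, 29, 8, 21, 0, 13, 0] :=
  C.D.simp (C.D.look (Edge.tr3 (w := [0, 25, 34, 4, 8, 24, 4, 13]) C.tri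
      (C.D.look (e5 C) (st2_5 C) [] [3, 5, 10, 13, 17, 5, 14] (by decide +kernel))
      (C.D.look (e4 C) (st1 C) [17, 3, 17, 2] [0, 3, 6, 10, 17, 5, 16] (by decide +kernel)))
    (st2_5 C) [2] [0, 3, 0, 7, 9, 16, 13] (by decide +kernel)) (by decide +kernel)
theorem e10 : Edge ψ z f (q ψ z) 2 [36] 4 [33, 16, 19, 35, 36, 26, 13] :=
  C.D.simp (C.D.look (Edge.tr3 (w := [26, 34, 22, 18, 0, 30, 18]) C.tri
      (C.D.look (e5 C) (st2_5 C) [] [0, 2, 17, 4, 12, 15] (by decide +kernel))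
      (C.D.look (e2 C) (st1 C) [6, 16, 5, 3, 0] [10, 12, 14, 4, 15, 2] (by decide +kernel)))
    (st2_5 C) [5, 0] [2, 10, 16, 4, 14, 3] (by decide +kernel)) (by decide +kernel)
theorem e11 : Edge ψ z f (q ψ z) 4 [4, 32, 24] 2 [33, 22, 27, 33, 36, 30] :=
  C.D.simp (C.D.look (inv2 C.zz (e10 C))
    (st4_2 C) [] [16, 0, 5, 16, 11] (by decide +kernel)) (by decide +kernel)
theorem e12 : Edge ψ z f (q ψ z) 2 [36, 34, 24] 2 [21, 29, 36, 35, 31, 22, 13] :=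
  C.D.simp (C.D.look (Edge.tr3 (w := [30, 32, 16, 35, 36, 27, 14]) C.tri
      (C.D.look (e5 C) (st2_5 C) [] [4, 6, 13, 14, 1, 16] (by decide +kernel))
      (C.D.look (e4 C) (st1 C) [5, 2, 14, 1, 2] [4, 7, 10, 16, 0, 15, 13] (by decide +kernel)))
    (st2_5 C) [3] [2, 5, 2, 16, 10] (by decide +kernel)) (by decide +kernel)
theorem e13 : Edge ψ z f (q ψ z) 2 [36, 34, 23] 4 [16, 19, 33, 36, 29, 15, 13] :=
  C.D.simp (C.D.look (Edge.tr3 (w := [2, 17, 30, 8, 25, 34, 2]) C.tri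
      (C.D.look (e5 C) (st2_5 C) [] [2, 12, 17, 4, 1, 14] (by decide +kernel))
      (C.D.look (e2 C) (st1 C) [4, 12, 12, 17, 5, 6] [1, 2, 6, 10, 13, 16] (by decide +kernel)))
    (st2_5 C) [] [1, 17, 2, 15, 1, 14] (by decide +kernel)) (by decide +kernel)
theorem e14 : Edge ψ z f (q ψ z) 4 [36, 25] 2 [12, 21, 28, 33, 36, 23] :=
  C.D.simp (C.D.look (inv2 C.zz (e13 C))
    (st4_2 C) [] [7, 9, 10, 15, 12] (by decide +kernel)) (by decide +kernel)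
theorem e15 : Edge ψ z f (q ψ z) 2 [36, 35, 23] 3 [20, 17, 28, 34, 36, 13] :=
  C.D.simp (C.D.look (Edge.tr3 (w := [13, 16, 35, 16, 36, 32]) C.tri
      (C.D.look (e5 C) (st2_5 C) [] [1, 11, 17, 0, 15] (by decide +kernel))
      (C.D.look (e3 C) (st1 C) [14, 1, 6, 2] [5, 2, 1, 15, 12] (by decide +kernel)))
    (st2_5 C) [] [0, 5, 2, 1, 6, 16, 10] (by decide +kernel)) (by decide +kernel)
theorem e16 : Edge ψ z f (q ψ z) 3 [36] 2 [33, 21, 32, 25, 23, 21, 2] :=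
  C.D.simp (C.D.look (inv2 C.zz (e15 C))
    (st3_5 C) [9, 1] [16, 5, 0, 3, 11] (by decide +kernel)) (by decide +kernel)
theorem st2_6 : Stabs ψ f (q ψ z) 2 [[20, 29, 30, 35, 17, 18], [12, 35, 16, 19, 21], [12, 35, 18, 31, 32, 16], [29, 34, 19, 35, 21], [6, 35, 26, 24, 6, 4, 24], [20, 18, 0, 12, 0, 33, 20, 8]] :=
  (st2_5 C).append (C.D.coinc (C.D.look (e16 C) (st3_5 C) [0, 8, 6, 1, 4, 2] [1, 2, 4, 6, 9, 10, 12] (by decide +kernel))
    (e16 C) (by decide +kernel))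
theorem st2_7_0 : Stabs ψ f (q ψ z) 2 [[6, 30, 0, 19, 20], [10, 23, 6, 22, 10], [13, 15, 28, 32, 16]] :=
  C.D.word (st2_6 C) [[9, 11, 5, 0], [0, 11, 2], [2, 6]] (by decide +kernel) (by decide)
theorem st2_7_1 : Stabs ψ f (q ψ z) 2 [[13, 29, 35, 21, 34], [14, 17, 28, 33, 12]] :=
  C.D.word (st2_6 C) [[8, 2, 9], [4, 7, 0]] (by decide +kernel) (by decide)
theorem st2_7 : Stabs ψ f (q ψ z) 2 [[6, 30, 0, 19, 20], [10, 23, 6, 22, 10], [13, 15, 28, 32, 16], [13, 29, 35, 21, 34], [14, 17, 28, 33, 12]] :=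
  ((st2_7_0 C).append (st2_7_1 C))
theorem e17 : Edge ψ z f (q ψ z) 3 [35, 4] 3 [34, 4, 2, 28, 34, 0, 12, 0] :=
  C.D.simp (C.D.look (Edge.tr3 (w := [32, 18, 21, 35, 36, 26]) C.tri
      (C.D.look (e6 C) (st3_5 C) [] [3, 16, 3, 4, 15] (by decide +kernel))
      (C.D.look (e3 C) (st1 C) [0, 2, 15, 3] [4, 1, 17, 2, 15, 16] (by decide +kernel)))
    (st3_5 C) [7, 0] [1, 9, 13, 14, 0, 5] (by decide +kernel)) (by decide +kernel)
theorem e18 : Edge ψ z f (q ψ z) 3 [6] 4 [8, 20, 32, 34, 4, 8, 30] :=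
  C.D.simp (C.D.look (Edge.tr3 (w := [28, 36, 35, 22, 27, 33]) C.tri
      (C.D.look (e6 C) (st3_5 C) [] [0, 16, 0, 4, 15] (by decide +kernel))
      (C.D.look (e2 C) (st1 C) [12, 16, 6, 1] [0, 10, 16, 3, 4, 16, 13] (by decide +kernel)))
    (st3_5 C) [3, 8, 6, 0, 4] [0, 5, 7, 10, 12, 14, 3] (by decide +kernel)) (by decide +kernel)
theorem e19 : Edge ψ z f (q ψ z) 4 [25, 33, 4] 3 [6, 16, 19, 35, 20, 13] :=
  C.D.simp (C.D.look (inv2 C.zz (e18 C))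
    (st4_2 C) [1] [1, 2, 15, 5, 12] (by decide +kernel)) (by decide +kernel)
theorem e20 : Edge ψ z f (q ψ z) 4 [36, 34, 23] 4 [19, 36, 34, 25, 34, 29, 15] :=
  C.D.simp (C.D.look (Edge.tr3 (w := [18, 21, 31, 32, 36, 22]) C.tri
      (C.D.look (e7 C) (st4_2 C) [] [2, 5, 13, 14, 1] (by decide +kernel))
      (C.D.look (e2 C) (st1 C) [2, 0, 17, 5, 2] [1, 4, 3, 11, 16, 1, 15] (by decide +kernel)))
    (st4_2 C) [] [0, 6, 16, 0, 4, 14, 1] (by decide +kernel)) (by decide +kernel)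
theorem e21 : Edge ψ z f (q ψ z) 4 [36, 32, 27] 4 [8, 24, 10, 25, 23, 34, 2] :=
  C.D.simp (C.D.look (Edge.tr3 (w := [17, 23, 31, 32, 19, 35, 8]) C.tri
      (C.D.look (e7 C) (st4_2 C) [] [0, 3, 8, 14, 0, 5, 13] (by decide +kernel))
      (C.D.look (e2 C) (st1 C) [4, 17, 4, 13] [0, 17, 3, 0, 14, 4, 13] (by decide +kernel)))
    (st4_2 C) [] [0, 5, 0, 6, 8, 14, 12] (by decide +kernel)) (by decide +kernel)
theorem e22 : Edge ψ z f (q ψ z) 4 [36, 22] 4 [21, 22, 0, 10, 22, 12, 4] :=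
  C.D.simp (C.D.look (inv2 C.zz (e21 C))
    (st4_2 C) [1, 1] [0, 3, 0, 7, 8, 13] (by decide +kernel)) (by decide +kernel)
theorem e23 : Edge ψ z f (q ψ z) 4 [34, 36, 23] 4 [34, 16, 36] :=
  C.D.simp (C.D.look (Edge.tr3 (w := [20, 32, 19, 16, 36, 14, 13]) C.tri
      (C.D.look (e7 C) (st4_2 C) [] [4, 6, 14, 3, 0, 10] (by decide +kernel))
      (C.D.look (e2 C) (st1 C) [5, 12, 17, 5, 12] [5, 16, 0, 17] (by decide +kernel)))
    (st4_2 C) [] [0, 5, 10, 14, 3, 16, 0] (by decide +kernel)) (by decide +kernel)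
theorem e24 : Edge ψ z f (q ψ z) 4 [36, 32, 22] 4 [35, 21, 35, 16, 35, 36] :=
  C.D.simp (C.D.look (Edge.tr3 (w := [21, 19, 28, 35, 36, 23, 13]) C.tri
      (C.D.look (e7 C) (st4_2 C) [] [2, 4, 8, 16, 0, 11] (by decide +kernel))
      (C.D.look (e2 C) (st1 C) [3, 5, 15, 16] [2, 4, 15, 1, 5, 15] (by decide +kernel)))
    (st4_2 C) [1] [15, 11] (by decide +kernel)) (by decide +kernel)

end CfsgLib.LyRec
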