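import Mathlib
import Cfsg.Agent.Lib.LyRec.DCert

/-! Double coset enumeration over `3 · McL : 2`, part 2 (generated). -/

set_option maxRecDepth 100000
set_option Elab.async false
set_option linter.unusedSectionVars false

namespace CfsgLib.LyRec

open CfsgLib.CosetEnum

variable {Γ : Type*} [Group Γ] {ψ : HH →* Γ} {z : Γ} (C : Ctx ψ z)
include C

theorem e25 : Edge ψ z f (q ψ z) 4 [36, 33, 24] 4 [33, 17, 34, 36, 29] :=
  C.D.simp (C.D.look (inv2 C.zz (e24 C))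
    (st4_2 C) [1] [7, 14, 17] (by decide +kernel)) (by decide +kernel)
theorem e26 : Edge ψ z f (q ψ z) 4 [36, 24] 4 [35, 16, 36, 31, 34, 27] :=
  C.D.simp (C.D.look (Edge.tr3 (w := [20, 28, 32, 19, 36, 35]) C.tri
      (C.D.look (e7 C) (st4_2 C) [] [2, 17, 3, 17, 4, 3] (by decide +kernel))
      (C.D.look (e2 C) (st1 C) [11, 14, 2, 14] [2, 6, 9, 13, 16, 3] (by decide +kernel)))
    (st4_2 C) [0] [6, 9, 16, 12] (by decide +kernel)) (by decide +kernel)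
theorem e27 : Edge ψ z f (q ψ z) 4 [36, 35, 24] 4 [19, 32, 36, 29, 35] :=
  C.D.simp (C.D.look (inv2 C.zz (e26 C))
    (st4_2 C) [0] [7, 15, 17] (by decide +kernel)) (by decide +kernel)
theorem e28 : Edge ψ z f (q ψ z) 4 [36] 4 [34, 17, 19, 36, 34, 23] :=
  C.D.simp (C.D.look (Edge.tr3 (w := [29, 33, 21, 8, 13, 34, 10]) C.tri
      (C.D.look (e7 C) (st4_2 C) [] [0, 2, 5, 2, 6, 9, 10, 15, 12] (by decide +kernel))
      (C.D.look (e2 C) (st1 C) [0, 6, 12, 16] [5, 3, 15, 1, 14, 3] (by decide +kernel)))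
    (st4_2 C) [2] [0, 3, 4, 1, 6, 16] (by decide +kernel)) (by decide +kernel)
theorem e29 : Edge ψ z f (q ψ z) 4 [36, 35, 23] 4 [12, 15, 35, 36, 29] :=
  C.D.simp (C.D.look (inv2 C.zz (e28 C))
    (st4_2 C) [] [7, 8, 15, 12] (by decide +kernel)) (by decide +kernel)
theorem e30 : Edge ψ z f (q ψ z) 4 [36, 33, 22] 4 [30, 36, 34, 23, 27, 33, 29] :=
  C.D.simp (C.D.look (Edge.tr3 (w := [13, 21, 32, 21, 36, 22]) C.tri
      (C.D.look (e7 C) (st4_2 C) [] [4, 10, 15, 0, 4] (by decide +kernel))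
      (C.D.look (e2 C) (st1 C) [3, 12, 11, 16, 5] [1, 7, 10, 16, 4, 12, 16] (by decide +kernel)))
    (st4_2 C) [] [0, 3, 4, 1, 9, 10, 16, 13] (by decide +kernel)) (by decide +kernel)
theorem e31 : Edge ψ z f (q ψ z) 4 [32, 8, 36] 4 [16, 27, 0, 18, 20, 6, 36, 0] :=
  C.D.simp (C.D.look (Edge.tr3 (w := [17, 23, 26, 6, 10, 32]) C.tri
      (C.D.look (e11 C) (st4_2 C) [] [1, 4, 9, 13, 16, 5] (by decide +kernel))
      (C.D.look (e13 C) (st2_7 C) [0, 8, 0] [0, 4, 14, 2, 4, 15] (by decide +kernel)))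
    (st4_2 C) [] [4, 17, 1, 13, 15, 3] (by decide +kernel)) (by decide +kernel)
theorem e32 : Edge ψ z f (q ψ z) 4 [8, 24, 32, 2] 4 [32, 8, 28, 32, 36, 18, 14] :=
  C.D.simp (C.D.look (inv2 C.zz (e31 C))
    (st4_2 C) [] [8, 17, 0, 2, 1, 5] (by decide +kernel)) (by decide +kernel)
theorem e33 : Edge ψ z f (q ψ z) 4 [21, 32, 27] 4 [13, 17, 6, 8, 23] :=
  C.D.simp (C.D.look (Edge.tr3 (w := [23, 26, 6, 10, 26, 23, 13]) C.tri
      (C.D.look (e11 C) (st4_2 C) [] [17, 0, 2, 5, 10, 15, 13] (by decide +kernel))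
      (C.D.look (e10 C) (st2_7 C) [9, 0, 7, 0] [1, 2, 10, 13, 14, 4, 1, 17] (by decide +kernel)))
    (st4_2 C) [0] [9, 10, 12, 16, 4, 1, 2] (by decide +kernel)) (by decide +kernel)
theorem e34 : Edge ψ z f (q ψ z) 4 [31, 36, 8] 4 [31, 36, 8, 32, 19, 35] :=
  C.D.simp (C.D.look (Edge.tr3 (w := [16, 35, 23, 21, 10, 8, 32]) C.tri
      (C.D.look (e11 C) (st4_2 C) [] [1, 2, 13, 15, 0, 5] (by decide +kernel))
      (C.D.look (e10 C) (st2_7 C) [0, 2, 1] [2, 4, 1, 10, 13, 15, 3] (by decide +kernel)))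
    (st4_2 C) [] [0, 2, 1, 7, 15, 1] (by decide +kernel)) (by decide +kernel)
theorem e35 : Edge ψ z f (q ψ z) 4 [21, 26, 8] 4 [27, 22, 34, 6, 36, 6, 12] :=
  C.D.simp (C.D.look (Edge.tr3 (w := [35, 21, 19, 33, 26, 33, 13]) C.tri
      (C.D.look (e11 C) (st4_2 C) [] [10, 16, 5, 0, 12, 15] (by decide +kernel))
      (C.D.look (e13 C) (st2_7 C) [1, 6, 1] [8, 16, 0, 12, 16] (by decide +kernel)))
    (st4_2 C) [0] [0, 5, 0, 3, 7, 10, 14, 13] (by decide +kernel)) (by decide +kernel)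
theorem e36 : Edge ψ z f (q ψ z) 4 [18, 33, 22] 4 [4, 35, 12, 21, 0, 2, 35] :=
  C.D.simp (C.D.look (inv2 C.zz (e35 C))
    (st4_2 C) [] [0, 2, 9, 10, 16, 1, 12] (by decide +kernel)) (by decide +kernel)
theorem e37 : Edge ψ z f (q ψ z) 2 [33, 25] 4 [0, 6, 34, 10, 23, 28, 16] :=
  C.D.simp (C.D.look (Edge.tr3 (w := [27, 32, 2, 28, 0, 30, 15, 6]) C.tri
      (C.D.look (e13 C) (st2_7 C) [] [5, 17, 2, 5, 14, 1] (by decide +kernel))
      (C.D.look (e34 C) (st4_2 C) [1, 2] [1, 6, 13, 15, 3, 16] (by decide +kernel)))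
    (st2_7 C) [6, 9] [0, 17, 3, 14, 12] (by decide +kernel)) (by decide +kernel)
theorem e38 : Edge ψ z f (q ψ z) 4 [29, 26, 6] 2 [23, 26, 32, 25, 32, 19, 32] :=
  C.D.simp (C.D.look (inv2 C.zz (e37 C))
    (st4_2 C) [1] [2, 5, 15, 17, 0, 14] (by decide +kernel)) (by decide +kernel)
theorem st4_3 : Stabs ψ f (q ψ z) 4 [[18, 29, 35, 20, 17, 15], [16, 18, 21, 18, 31, 13], [0, 29, 4, 8, 16, 4, 34, 29]] :=
  (st4_2 C).append (C.D.coinc (Edge.tr3 (w := [19, 16, 10, 4, 18, 8, 4, 2]) C.tri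
      (C.D.look (e13 C) (st2_7 C) [] [0, 8, 15, 3, 13] (by decide +kernel))
      (C.D.look (e33 C) (st4_2 C) [2, 1, 1, 1, 1, 1, 1, 1] [0, 2, 4, 1, 7, 9, 14, 10] (by decide +kernel)))
    (C.D.look (e37 C) (st2_7 C) [6, 1, 5, 2, 7] [7, 10, 13, 15, 1, 2] (by decide +kernel)) (by decide +kernel))
theorem st4_4_0 : Stabs ψ f (q ψ z) 4 [[29], [13, 0, 16, 0, 12], [15, 18, 35, 20, 17]] :=
  C.D.word (st4_3 C) [[1, 1, 1, 1, 1], [0, 4], [0, 0, 0, 0, 0, 0]] (by decide +kernel) (by decide)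
theorem st4_4_1 : Stabs ψ f (q ψ z) 4 [[34, 17, 18, 32, 21], [2, 34, 27, 30, 35, 2], [4, 17, 4, 16, 25, 15]] :=
  C.D.word (st4_3 C) [[0, 0], [5, 0, 5, 1, 1, 4], [5, 0, 5, 0, 4]] (by decide +kernel) (by decide)
theorem st4_4_2 : Stabs ψ f (q ψ z) 4 [[4, 22, 0, 6, 8, 16], [6, 10, 20, 33, 20, 26], [6, 10, 34, 26, 20, 17]] :=
  C.D.word (st4_3 C) [[0, 5, 5, 0, 0], [1, 5, 5, 1, 1], [5, 1, 4, 4]] (by decide +kernel) (by decide)
theorem st4_4_3 : Stabs ψ f (q ψ z) 4 [[13, 0, 16, 0, 29, 12], [13, 0, 17, 0, 28, 12], [13, 29, 0, 17, 0, 12]] :=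
  C.D.word (st4_3 C) [[1, 1, 4, 1, 1], [1, 4, 1, 4], [1, 4, 1, 1, 4]] (by decide +kernel) (by decide)
theorem st4_4_4 : Stabs ψ f (q ψ z) 4 [[15, 16, 10, 23, 36, 4], [16, 21, 29, 34, 19, 14], [18, 29, 35, 20, 17, 15]] :=
  C.D.word (st4_3 C) [[0, 4, 4, 0, 0, 4, 4], [0, 0, 0, 0], [0]] (by decide +kernel) (by decide)
theorem st4_4_5 : Stabs ψ f (q ψ z) 4 [[25, 31, 0, 19, 26, 22], [27, 22, 0, 19, 26, 22], [28, 34, 17, 18, 32, 21]] :=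
  C.D.word (st4_3 C) [[5, 1, 1, 4, 1], [0, 0, 4, 1, 5], [4, 0, 0, 4, 1, 4]] (by decide +kernel) (by decide)
theorem st4_4_6 : Stabs ψ f (q ψ z) 4 [[29, 34, 17, 18, 32, 21], [33, 10, 31, 6, 17, 33], [0, 4, 2, 19, 16, 34, 21]] :=
  C.D.word (st4_3 C) [[1, 1, 1], [4, 1, 1, 4], [4, 1, 5, 0]] (by decide +kernel) (by decide)
theorem st4_4_7 : Stabs ψ f (q ψ z) 4 [[0, 10, 35, 24, 4, 12, 33]] :=
  C.D.word (st4_3 C) [[1, 5, 2]] (by decide +kernel) (by decide)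
theorem st4_4 : Stabs ψ f (q ψ z) 4 [[29], [13, 0, 16, 0, 12], [15, 18, 35, 20, 17], [34, 17, 18, 32, 21], [2, 34, 27, 30, 35, 2], [4, 17, 4, 16, 25, 15], [4, 22, 0, 6, 8, 16], [6, 10, 20, 33, 20, 26], [6, 10, 34, 26, 20, 17], [13, 0, 16, 0, 29, 12], [13, 0, 17, 0, 28, 12], [13, 29, 0, 17, 0, 12], [15, 16, 10, 23, 36, 4], [16, 21, 29, 34, 19, 14], [18, 29, 35, 20, 17, 15], [25, 31, 0, 19, 26, 22], [27, 22, 0, 19, 26, 22], [28, 34, 17, 18, 32, 21], [29, 34, 17, 18, 32, 21], [33, 10, 31, 6, 17, 33], [0, 4, 2, 19, 16, 34, 21], [0, 10, 35, 24, 4, 12, 33]] :=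
  ((st4_4_0 C).append ((st4_4_1 C).append ((st4_4_2 C).append ((st4_4_3 C).append ((st4_4_4 C).append ((st4_4_5 C).append ((st4_4_6 C).append (st4_4_7 C))))))))
theorem e39 : Edge ψ z f (q ψ z) 2 [10, 4] 4 [31, 10, 34, 0, 17, 34, 23, 0] :=
  C.D.simp (C.D.look (Edge.tr3 (w := [0, 8, 36, 0, 6, 8, 30, 21]) C.tri
      (C.D.look (e13 C) (st2_7 C) [] [2, 6, 17, 1, 5, 17] (by decide +kernel))
      (C.D.look (e35 C) (st4_4 C) [43, 12, 1] [1, 2, 5, 2, 9] (by decide +kernel)))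
    (st2_7 C) [0, 5, 2] [0, 3, 10, 13, 15, 4, 14] (by decide +kernel)) (by decide +kernel)
theorem e40 : Edge ψ z f (q ψ z) 4 [2] 2 [10, 4, 32, 16, 35, 21] :=
  C.D.simp (C.D.look (inv2 C.zz (e39 C))
    (st4_4 C) [2, 16] [16, 1, 15, 4] (by decide +kernel)) (by decide +kernel)
theorem e41 : Edge ψ z f (q ψ z) 2 [19, 23, 4] 4 [0, 12, 10, 17, 20, 32, 22, 17] :=
  C.D.simp (C.D.look (Edge.tr3 (w := [13, 28, 6, 21, 32, 23, 35, 2]) C.tri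
      (C.D.look (e13 C) (st2_7 C) [] [0, 2, 7, 10, 15, 4, 12] (by decide +kernel))
      (C.D.look (e28 C) (st4_4 C) [14, 2] [5, 9, 16, 0, 17] (by decide +kernel)))
    (st2_7 C) [7] [6, 13, 15, 1] (by decide +kernel)) (by decide +kernel)
theorem e42 : Edge ψ z f (q ψ z) 4 [0, 24] 2 [24, 34, 16, 35, 0, 31, 22, 8] :=
  C.D.simp (C.D.look (inv2 C.zz (e41 C))
    (st4_4 C) [0, 8] [1, 9, 17, 5, 0, 10] (by decide +kernel)) (by decide +kernel)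
theorem e43 : Edge ψ z f (q ψ z) 2 [0] 2 [35, 31, 10, 23, 31, 15, 0] :=
  C.D.simp (C.D.look (Edge.tr3 (w := [33, 34, 16, 25, 32, 29, 13]) C.tri
      (C.D.look (e13 C) (st2_7 C) [] [4, 1, 2, 14, 11] (by decide +kernel))
      (C.D.look (e40 C) (st4_4 C) [43, 38, 7] [1, 4, 3, 15, 17] (by decide +kernel)))
    (st2_7 C) [0, 6, 1, 5] [5, 6, 14, 2, 11, 17] (by decide +kernel)) (by decide +kernel)
theorem e44 : Edge ψ z f (q ψ z) 2 [13, 6] 2 [0, 18, 32, 21, 19, 32, 17] :=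
  C.D.simp (C.D.look (inv2 C.zz (e43 C))
    (st2_7 C) [0, 5] [3, 16, 4, 2, 16, 0] (by decide +kernel)) (by decide +kernel)
theorem e45 : Edge ψ z f (q ψ z) 2 [4] 4 [4, 17, 34, 10, 8, 13, 32, 2] :=
  C.D.simp (C.D.look (Edge.tr3 (w := [0, 32, 27, 32, 2, 35, 19, 2]) C.tri
      (C.D.look (e13 C) (st2_7 C) [] [0, 14, 4, 17, 3, 17] (by decide +kernel))
      (C.D.look (e34 C) (st4_4 C) [31, 22] [15, 4, 10, 14, 3, 13] (by decide +kernel)))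
    (st2_7 C) [6, 6, 2] [16, 2, 1, 5, 2, 15] (by decide +kernel)) (by decide +kernel)
theorem e46 : Edge ψ z f (q ψ z) 4 [27, 4] 2 [4, 32, 16, 30, 35, 21] :=
  C.D.simp (C.D.look (inv2 C.zz (e45 C))
    (st4_4 C) [0, 7] [16, 1, 11, 15, 4] (by decide +kernel)) (by decide +kernel)

end CfsgLib.LyRec
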