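import Mathlib
import Cfsg.Agent.Lib.LyRec.DCert2

/-! Double coset enumeration over `3 · McL : 2`, part 3 (generated). -/

set_option maxRecDepth 100000
set_option Elab.async false
set_option linter.unusedSectionVars false

namespace CfsgLib.LyRec

open CfsgLib.CosetEnum

variable {Γ : Type*} [Group Γ] {ψ : HH →* Γ} {z : Γ} (C : Ctx ψ z)
include C

theorem e47 : Edge ψ z f (q ψ z) 4 [22] 4 [18, 6, 18, 35, 22, 18, 0] :=
  C.D.simp (C.D.look (Edge.tr3 (w := [18, 22, 24, 32, 31, 25, 15]) C.tri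
      (C.D.look (e14 C) (st4_4 C) [] [1, 5, 2, 7, 16, 2] (by decide +kernel))
      (C.D.look (e39 C) (st2_7 C) [7, 2, 1, 4, 2] [0, 14, 5, 10, 17, 2, 12] (by decide +kernel)))
    (st4_4 C) [13, 1, 43] [2, 5, 8, 10, 17, 3, 13] (by decide +kernel)) (by decide +kernel)
theorem e48 : Edge ψ z f (q ψ z) 4 [8, 22] 4 [10, 33, 6, 25, 0, 12, 35, 2] :=
  C.D.simp (C.D.look (Edge.tr3 (w := [13, 19, 24, 29, 35, 24, 15]) C.tri
      (C.D.look (e14 C) (st4_4 C) [] [4, 10, 16, 3, 1, 15] (by decide +kernel))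
      (C.D.look (e37 C) (st2_7 C) [4, 4, 0, 2, 1, 5] [0, 2, 8, 13, 15] (by decide +kernel)))
    (st4_4 C) [5] [5, 7, 10, 17, 3, 1] (by decide +kernel)) (by decide +kernel)
theorem e49 : Edge ψ z f (q ψ z) 4 [27, 0] 4 [13, 29, 4, 27, 34, 8, 20, 10] :=
  C.D.simp (C.D.look (inv2 C.zz (e48 C))
    (st4_4 C) [1, 3] [0, 3, 10, 15, 1, 5, 17, 13] (by decide +kernel)) (by decide +kernel)
theorem e50 : Edge ψ z f (q ψ z) 3 [8] 4 [2, 24, 32, 6, 30, 25, 10] :=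
  C.D.simp (C.D.look (Edge.tr3 (w := [13, 20, 28, 4, 8, 23, 25]) C.tri
      (C.D.look (e17 C) (st3_5 C) [] [0, 3, 11, 16, 5, 15] (by decide +kernel))
      (C.D.look (e18 C) (st3_5 C) [3, 6, 1, 8] [0, 3, 4, 3, 7, 15, 1] (by decide +kernel)))
    (st3_5 C) [8, 0, 6] [2, 6, 9, 10, 15, 5] (by decide +kernel)) (by decide +kernel)
theorem e51 : Edge ψ z f (q ψ z) 4 [34, 27] 3 [8, 16, 32, 34, 19, 20, 14] :=
  C.D.simp (C.D.look (inv2 C.zz (e50 C))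
    (st4_4 C) [4] [0, 15, 0, 2, 15, 5] (by decide +kernel)) (by decide +kernel)
theorem e52 : Edge ψ z f (q ψ z) 3 [35, 10] 4 [0, 12, 19, 4, 33, 25, 33, 30] :=
  C.D.simp (C.D.look (Edge.tr3 (w := [35, 4, 33, 16, 34, 36, 24]) C.tri
      (C.D.look (e17 C) (st3_5 C) [] [0, 17, 3, 15] (by decide +kernel))
      (C.D.look (e50 C) (st3_5 C) [0, 6, 0, 8] [3, 0, 7, 9, 10, 17, 12] (by decide +kernel)))
    (st3_5 C) [8, 6, 1] [0, 17, 1, 3, 16, 5] (by decide +kernel)) (by decide +kernel)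
theorem e53 : Edge ψ z f (q ψ z) 4 [22, 19, 0] 3 [18, 34, 23, 27, 10, 6, 32, 0] :=
  C.D.simp (C.D.look (inv2 C.zz (e52 C))
    (st4_4 C) [1] [4, 15, 1, 2, 4, 10, 15] (by decide +kernel)) (by decide +kernel)
theorem e54 : Edge ψ z f (q ψ z) 4 [4, 8] 4 [29, 6, 4, 24, 19, 8, 13] :=
  C.D.simp (C.D.look (Edge.tr3 (w := [36, 34, 18, 34, 10, 4, 23, 0]) C.tri
      (C.D.look (e19 C) (st4_4 C) [] [1, 15, 2, 0, 15, 4, 1] (by decide +kernel))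
      (C.D.look (e52 C) (st3_5 C) [4, 0, 6, 1, 9, 4, 0] [10, 12, 16, 2, 0, 14] (by decide +kernel)))
    (st4_4 C) [0, 8] [1, 16, 0, 2, 13] (by decide +kernel)) (by decide +kernel)
theorem e55 : Edge ψ z f (q ψ z) 4 [8, 24] 4 [17, 22, 10, 27, 6, 18, 0] :=
  C.D.simp (C.D.look (inv2 C.zz (e54 C))
    (st4_4 C) [4, 1] [1, 5, 9, 17, 0, 2, 10] (by decide +kernel)) (by decide +kernel)
theorem e56 : Edge ψ z f (q ψ z) 4 [6] 4 [0, 25, 0, 18, 0, 38, 22] :=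
  C.D.simp (C.D.look (Edge.tr3 (w := [16, 19, 4, 2, 33, 23, 6, 12]) C.tri
      (C.D.look (e19 C) (st4_4 C) [] [4, 6, 17, 0, 11] (by decide +kernel))
      (C.D.look (e50 C) (st3_5 C) [3, 5, 9, 1, 4] [0, 8, 15, 0, 5, 2, 13] (by decide +kernel)))
    (st4_4 C) [32, 34] [2, 10, 12, 17, 5, 0, 17] (by decide +kernel)) (by decide +kernel)
theorem e57 : Edge ψ z f (q ψ z) 4 [34, 0] 4 [26, 35, 25, 22, 10, 19, 12] :=
  C.D.simp (C.D.look (Edge.tr3 (w := [18, 4, 21, 0, 4, 36, 13, 2]) C.tri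
      (C.D.look (e19 C) (st4_4 C) [] [6, 11, 16, 5, 17, 0] (by decide +kernel))
      (C.D.look (e52 C) (st3_5 C) [7, 1, 4, 1, 8] [1, 15, 2, 5, 10, 15, 3] (by decide +kernel)))
    (st4_4 C) [16, 0] [17, 1, 5, 11] (by decide +kernel)) (by decide +kernel)
theorem e58 : Edge ψ z f (q ψ z) 4 [4, 10] 4 [21, 38, 4, 23, 19, 35, 10, 2] :=
  C.D.simp (C.D.look (inv2 C.zz (e57 C))
    (st4_4 C) [0, 15] [0, 2, 17, 2, 15, 11] (by decide +kernel)) (by decide +kernel)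
theorem e59 : Edge ψ z f (q ψ z) 4 [24, 4] 2 [23, 20, 34, 20, 30, 8, 27, 0] :=
  C.D.simp (C.D.look (Edge.tr3 (w := [33, 10, 27, 10, 25, 0, 32, 12]) C.tri
      (C.D.look (e20 C) (st4_4 C) [] [10, 17, 4, 3, 14, 13] (by decide +kernel))
      (C.D.look (e40 C) (st4_4 C) [42, 17, 0] [1, 15, 2, 1, 17] (by decide +kernel)))
    (st4_4 C) [9, 1] [5, 15, 1, 3, 10, 17] (by decide +kernel)) (by decide +kernel)
theorem e60 : Edge ψ z f (q ψ z) 2 [33, 8] 4 [32, 24, 20, 10, 33, 25, 16, 0] :=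
  C.D.simp (C.D.look (inv2 C.zz (e59 C))
    (st2_7 C) [] [6, 17, 3, 17, 4, 1] (by decide +kernel)) (by decide +kernel)
theorem e61 : Edge ψ z f (q ψ z) 4 [0, 25] 4 [0, 16, 29, 10, 32, 23, 19, 13] :=
  C.D.simp (C.D.look (Edge.tr3 (w := [10, 8, 4, 35, 36, 17, 10]) C.tri
      (C.D.look (e23 C) (st4_4 C) [] [4, 9, 13, 16, 0, 14] (by decide +kernel))
      (C.D.look (e48 C) (st4_4 C) [4, 1, 17] [1, 3, 4, 10, 14, 2, 12, 15] (by decide +kernel)))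
    (st4_4 C) [1, 8] [6, 14, 2, 16, 12] (by decide +kernel)) (by decide +kernel)
theorem e62 : Edge ψ z f (q ψ z) 4 [35, 6] 4 [0, 23, 24, 34, 12, 16, 34, 18] :=
  C.D.simp (C.D.look (inv2 C.zz (e61 C))
    (st4_4 C) [0, 12] [1, 8, 10, 16, 2, 15, 13] (by decide +kernel)) (by decide +kernel)
theorem e63 : Edge ψ z f (q ψ z) 2 [36, 19, 4] 2 [29, 0, 22, 25, 20, 6, 19] :=
  C.D.simp (C.D.look (Edge.tr3 (w := [35, 12, 27, 0, 35, 23, 34, 4]) C.tri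
      (C.D.look (e37 C) (st2_7 C) [] [2, 4, 7, 11, 17] (by decide +kernel))
      (C.D.look (e42 C) (st4_4 C) [1, 30, 2] [1, 12, 15, 5, 15, 2, 5] (by decide +kernel)))
    (st2_7 C) [6] [0, 16, 2, 5, 12, 15, 3] (by decide +kernel)) (by decide +kernel)
theorem e64 : Edge ψ z f (q ψ z) 2 [30, 10, 36] 3 [13, 20, 28, 33, 0, 38, 10] :=
  C.D.simp (C.D.look (Edge.tr3 (w := [32, 17, 0, 20, 0, 29, 12, 0]) C.tri
      (C.D.look (e37 C) (st2_7 C) [] [0, 2, 5, 11, 15, 3] (by decide +kernel))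
      (C.D.look (e53 C) (st4_4 C) [6, 0, 3] [0, 8, 15, 2, 13, 15] (by decide +kernel)))
    (st2_7 C) [] [17, 4, 3, 17, 0, 11] (by decide +kernel)) (by decide +kernel)
theorem e65 : Edge ψ z f (q ψ z) 3 [0] 2 [12, 18, 10, 32, 27, 33, 25, 0] :=
  C.D.simp (C.D.look (inv2 C.zz (e64 C))
    (st3_5 C) [1, 8, 6, 0] [4, 3, 10, 13, 17, 0, 14] (by decide +kernel)) (by decide +kernel)
theorem e66 : Edge ψ z f (q ψ z) 2 [30, 24, 8] 3 [35, 6, 4, 20, 23, 15, 0, 12] :=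
  C.D.simp (C.D.look (Edge.tr3 (w := [12, 8, 10, 20, 16, 0, 30, 8]) C.tri
      (C.D.look (e37 C) (st2_7 C) [] [2, 1, 8, 15, 4, 10] (by decide +kernel))
      (C.D.look (e51 C) (st4_4 C) [7, 18] [0, 6, 9, 17, 2, 12] (by decide +kernel)))
    (st2_7 C) [] [4, 1, 6, 10, 14, 2] (by decide +kernel)) (by decide +kernel)
theorem e67 : Edge ψ z f (q ψ z) 3 [0, 36] 2 [27, 32, 27, 21, 10, 20, 4] :=
  C.D.simp (C.D.look (inv2 C.zz (e66 C))
    (st3_5 C) [9, 4, 9] [2, 5, 9, 15, 2, 11] (by decide +kernel)) (by decide +kernel)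

end CfsgLib.LyRec
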