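import Mathlib
import Cfsg.Agent.Lib.LyRec.DCert3

/-! Double coset enumeration over `3 · McL : 2`, part 4 (generated). -/

set_option maxRecDepth 100000
set_option Elab.async false
set_option linter.unusedSectionVars false

namespace CfsgLib.LyRec

open CfsgLib.CosetEnum

variable {Γ : Type*} [Group Γ] {ψ : HH →* Γ} {z : Γ} (C : Ctx ψ z)
include C

theorem nbr1 : ∀ h, Nbr ψ z (q ψ z) 5 1 h :=
  C.nbr_all (ws := [[], [0], [2], [8, 0], [36]]) (st1 C)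
    (List.forall_mem_cons.2 ⟨(e1 C).nbr (by decide), (List.forall_mem_cons.2 ⟨(e2 C).nbr (by decide), (List.forall_mem_cons.2 ⟨(e3 C).nbr (by decide), (List.forall_mem_cons.2 ⟨(e4 C).nbr (by decide), (List.forall_mem_cons.2 ⟨(e8 C).nbr (by decide), List.forall_mem_nil _⟩)⟩)⟩)⟩)⟩)
    (sched := [6, 6, 6, 1, 6, 8, 6, 6, 6, 3, 2, 6, 1, 6, 7, 6, 6, 6, 0, 6, 8, 6, 6, 6, 1]) (by decide +kernel)
theorem nbr2 : ∀ h, Nbr ψ z (q ψ z) 5 2 h :=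
  C.nbr_all (ws := [[], [36, 26], [36], [36, 34, 24], [36, 34, 23], [36, 35, 23], [33, 25], [10, 4], [19, 23, 4], [0], [13, 6], [4], [33, 8], [36, 19, 4], [30, 10, 36], [30, 24, 8]]) (st2_7 C)
    (List.forall_mem_cons.2 ⟨(e5 C).nbr (by decide), (List.forall_mem_cons.2 ⟨(e9 C).nbr (by decide), (List.forall_mem_cons.2 ⟨(e10 C).nbr (by decide), (List.forall_mem_cons.2 ⟨(e12 C).nbr (by decide), (List.forall_mem_cons.2 ⟨(e13 C).nbr (by decide), (List.forall_mem_cons.2 ⟨(e15 C).nbr (by decide), (List.forall_mem_cons.2 ⟨(e37 C).nbr (by decide), (List.forall_mem_cons.2 ⟨(e39 C).nbr (by decide), (List.forall_mem_cons.2 ⟨(e41 C).nbr (by decide), (List.forall_mem_cons.2 ⟨(e43 C).nbr (by decide), (List.forall_mem_cons.2 ⟨(e44 C).nbr (by decide), (List.forall_mem_cons.2 ⟨(e45 C).nbr (by decide), (List.forall_mem_cons.2 ⟨(e60 C).nbr (by decide), (List.forall_mem_cons.2 ⟨(e63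 C).nbr (by decide), (List.forall_mem_cons.2 ⟨(e64 C).nbr (by decide), (List.forall_mem_cons.2 ⟨(e66 C).nbr (by decide), List.forall_mem_nil _⟩)⟩)⟩)⟩)⟩)⟩)⟩)⟩)⟩)⟩)⟩)⟩)⟩)⟩)⟩)⟩)
    (sched := [1, 0, 2, 1, 4, 0, 1, 2, 0, 1, 4, 2, 1, 0, 2, 1, 4]) (by decide +kernel)
theorem nbr3 : ∀ h, Nbr ψ z (q ψ z) 5 3 h :=
  C.nbr_all (ws := [[], [36], [35, 4], [6], [8], [35, 10], [0], [0, 36]]) (st3_5 C)
    (List.forall_mem_cons.2 ⟨(e6 C).nbr (by decide), (List.forall_mem_cons.2 ⟨(e16 C).nbr (by decide), (List.forall_mem_cons.2 ⟨(e17 C).nbr (by decide), (List.forall_mem_cons.2 ⟨(e18 C).nbr (by decide), (List.forall_mem_cons.2 ⟨(e50 C).nbr (by decide), (List.forall_mem_cons.2 ⟨(e52 C).nbr (by decide), (List.forall_mem_cons.2 ⟨(e65 C).nbr (by decide), (List.forall_mem_cons.2 ⟨(e67 C).nbr (by decide), List.forall_mem_nil _⟩)⟩)⟩)⟩)⟩)⟩)⟩)⟩)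
    (sched := [1, 1, 1, 0, 1, 3, 1, 0, 1, 2, 1, 0, 1, 4, 1, 3, 1, 0, 1, 2, 1, 3, 4]) (by decide +kernel)
theorem nbr4 : ∀ h, Nbr ψ z (q ψ z) 5 4 h :=
  C.nbr_all (ws := [[], [4, 32, 24], [36, 25], [25, 33, 4], [36, 34, 23], [36, 32, 27], [36, 22], [34, 36, 23], [36, 32, 22], [36, 33, 24], [36, 24], [36, 35, 24], [36], [36, 35, 23], [36, 33, 22], [32, 8, 36], [8, 24, 32, 2], [21, 32, 27], [31, 36, 8], [21, 26, 8], [18, 33, 22], [29, 26, 6], [2], [0, 24], [27, 4], [22], [8, 22], [27, 0], [34, 27], [22, 19, 0], [4, 8], [8, 24], [6], [34, 0], [4, 10], [24, 4], [0, 25], [35, 6]]) (st4_4 C)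
    (List.forall_mem_cons.2 ⟨(e7 C).nbr (by decide), (List.forall_mem_cons.2 ⟨(e11 C).nbr (by decide), (List.forall_mem_cons.2 ⟨(e14 C).nbr (by decide), (List.forall_mem_cons.2 ⟨(e19 C).nbr (by decide), (List.forall_mem_cons.2 ⟨(e20 C).nbr (by decide), (List.forall_mem_cons.2 ⟨(e21 C).nbr (by decide), (List.forall_mem_cons.2 ⟨(e22 C).nbr (by decide), (List.forall_mem_cons.2 ⟨(e23 C).nbr (by decide), (List.forall_mem_cons.2 ⟨(e24 C).nbr (by decide), (List.forall_mem_cons.2 ⟨(e25 C).nbr (by decide), (List.forall_mem_cons.2 ⟨(e26 C).nbr (by decide), (List.forall_mem_cons.2 ⟨(e27 C).nbr (by decide), (List.forall_mem_cons.2 ⟨(e28 C).nbr (by decide), (List.forall_mem_cons.2 ⟨(e29 C).nbr (by decide), (List.forall_mem_cons.2 ⟨(e30 C).nbr (by decide), (List.forall_mem_cons.2 ⟨(e31 C).nbr (by decide), (List.forall_mem_cons.2 ⟨(e32 C).nbr (by decide), (List.forall_mem_cons.2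 ⟨(e33 C).nbr (by decide), (List.forall_mem_cons.2 ⟨(e34 C).nbr (by decide), (List.forall_mem_cons.2 ⟨(e35 C).nbr (by decide), (List.forall_mem_cons.2 ⟨(e36 C).nbr (by decide), (List.forall_mem_cons.2 ⟨(e38 C).nbr (by decide), (List.forall_mem_cons.2 ⟨(e40 C).nbr (by decide), (List.forall_mem_cons.2 ⟨(e42 C).nbr (by decide), (List.forall_mem_cons.2 ⟨(e46 C).nbr (by decide), (List.forall_mem_cons.2 ⟨(e47 C).nbr (by decide), (List.forall_mem_cons.2 ⟨(e48 C).nbr (by decide), (List.forall_mem_cons.2 ⟨(e49 C).nbr (by decide), (List.forall_mem_cons.2 ⟨(e51 C).nbr (by decide), (List.forall_mem_cons.2 ⟨(e53 C).nbr (by decide), (List.forall_mem_cons.2 ⟨(e54 C).nbr (by decide), (List.forall_mem_cons.2 ⟨(e55 C).nbr (by decide), (List.forall_mem_cons.2 ⟨(e56 C).nbr (by decide), (List.forall_mem_cons.2 ⟨(e57 C).nbr (by decide), (List.forall_mem_cons.2 ⟨(e58 C).nbr (by decide),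 (List.forall_mem_cons.2 ⟨(e59 C).nbr (by decide), (List.forall_mem_cons.2 ⟨(e61 C).nbr (by decide), (List.forall_mem_cons.2 ⟨(e62 C).nbr (by decide), List.forall_mem_nil _⟩)⟩)⟩)⟩)⟩)⟩)⟩)⟩)⟩)⟩)⟩)⟩)⟩)⟩)⟩)⟩)⟩)⟩)⟩)⟩)⟩)⟩)⟩)⟩)⟩)⟩)⟩)⟩)⟩)⟩)⟩)⟩)⟩)⟩)⟩)⟩)⟩)⟩)
    (sched := [1, 0, 1, 0, 1, 0, 6, 0, 1, 0, 1, 21, 0, 1, 0, 1, 0]) (by decide +kernel)


end CfsgLib.LyRec
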